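import Groth.Agent.DQCoh.AffineAmp
import Groth.Agent.PinchQC.Basic
import Groth.Agent.HTorBC.FlatExact
import Groth.Agent.QC.IdealMod
import Groth.Agent.CohQC.Affineness
import Groth.Agent.QC.Localisation
import Groth.Agent.InvGen.Basic
import Mathlib

/-!
# Quasi-coherent modules as quotients of flat ones (affine diagonal)

The step: a quasi-coherent quotient, flat over the opens already treated, is pulled back along
`F ⟶ j_* F|_U ↞ j_* P` with `P` free on the affine `U`.
-/

set_option autoImplicit false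
set_option linter.style.haveILetI false
set_option backward.isDefEq.respectTransparency false
set_option backward.isDefEq.respectTransparency.types false

universe u

open CategoryTheory CategoryTheory.Limits AlgebraicGeometry TopologicalSpace Opposite
open Groth.Agent.QC (res resO res_res res_self res_smul app_res appₗ)

noncomputable section

namespace Groth.Agent.FlatCover

/-- Restriction of scalars of a flat module along a flat ring map. -/
theorem flat_compHom {A B M : Type u} [CommRing A] [CommRing B] [AddCommGroup M] [Module B M] (f : A →+* B)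
    (hf : f.Flat) (h : Module.Flat B M) : letI := Module.compHom M f; Module.Flat A M := by
  letI := f.toAlgebra
  letI := Module.compHom M f
  haveI : IsScalarTower A B M := ⟨fun a b m => mul_smul (f a) b m⟩
  haveI : Module.Flat A B := hf
  exact Module.Flat.trans A B M

/-- An extension of flat modules is flat. -/
theorem flat_extension {A M₁ M₂ M₃ : Type u} [CommRing A] [AddCommGroup M₁] [Module A M₁]
    [AddCommGroup M₂] [Module A M₂] [AddCommGroup M₃] [Module A M₃]
    (f : M₁ →ₗ[A] M₂) (g : M₂ →ₗ[A] M₃) (hf : Function.Injective f) (hfg : Function.Exact f g)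
    (hg : Function.Surjective g) [Module.Flat A M₁] [Module.Flat A M₃] : Module.Flat A M₂ := by
  rw [Module.Flat.iff_lTensor_injective]
  intro I _
  rw [injective_iff_map_eq_zero]
  intro z hz
  have h3 : g.rTensor I z = 0 := by
    apply Module.Flat.lTensor_preserves_injective_linearMap (M := M₃) I.subtype I.injective_subtype
    rw [map_zero, ← LinearMap.comp_apply, LinearMap.lTensor_comp_rTensor,
      ← LinearMap.rTensor_comp_lTensor, LinearMap.comp_apply, hz, map_zero]
  obtain ⟨y, rfl⟩ := (rTensor_exact I hfg hg z).1 h3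
  have hfA : Function.Injective (f.rTensor A) := by
    intro a b hab
    apply (TensorProduct.rid A M₁).injective
    apply hf
    have e : ∀ t : TensorProduct A M₁ A, TensorProduct.rid A M₂ (f.rTensor A t) = f (TensorProduct.rid A M₁ t) :=
      fun t => by
        induction t using TensorProduct.induction_on with
        | zero => simp
        | tmul m r => simp
        | add p q hp hq => simp [hp, hq]
    rw [← e, ← e, hab]
  have hy : I.subtype.lTensor M₁ y = 0 := hfA (by
    rw [map_zero, ← LinearMap.comp_apply, LinearMap.rTensor_comp_lTensor,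
      ← LinearMap.lTensor_comp_rTensor, LinearMap.comp_apply, hz])
  have hy0 : y = 0 := Module.Flat.lTensor_preserves_injective_linearMap (M := M₁) I.subtype
    I.injective_subtype (hy.trans (map_zero _).symm)
  rw [hy0, map_zero]

variable {X : Scheme.{u}}

/-- The value of a composite on sections. -/
theorem comp_app_apply {A B C : X.Modules} (p : A ⟶ B) (q : B ⟶ C) (W : X.Opens) (x : Γ(A, W)) :
    (p ≫ q).app W x = q.app W (p.app W x) := rfl

/-- Every quasi-coherent module on an affine scheme is a quotient of a flat quasi-coherent one. -/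
theorem exists_flat_epi_spec {R : CommRingCat.{u}} (M : (Spec R).Modules) (hM : Coh.IsQCoh M) :
    ∃ (P : (Spec R).Modules) (π : P ⟶ M), Coh.IsQCoh P ∧ FlatMod.IsFlat P ∧ Epi π := by
  haveI : M.IsQuasicoherent := hM
  have key : ∀ N : ModuleCat.{u} R, ∃ (P : ModuleCat.{u} R) (p : P ⟶ N), Epi p ∧ Module.Flat R P := fun N => by
    refine ⟨ModuleCat.of R (N →₀ R), ModuleCat.ofHom (Finsupp.linearCombination R id), ?_,
      inferInstanceAs (Module.Flat R (N →₀ R))⟩
    rw [ModuleCat.epi_iff_surjective]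
    exact fun n => ⟨Finsupp.single n 1, by simp⟩
  obtain ⟨P, p, hp, hPflat⟩ := key (moduleSpecΓFunctor.obj M)
  haveI := hp
  haveI : (tilde.functor R).IsLeftAdjoint := tilde.adjunction.isLeftAdjoint
  haveI : Epi ((tilde.functor R).map p) := inferInstance
  haveI : IsIso M.fromTildeΓ := (isQuasicoherent_iff_isIso_fromTildeΓ M).1 hM
  refine ⟨tilde P, (tilde.functor R).map p ≫ M.fromTildeΓ, Groth.Agent.QC.isQCoh_tilde P,
    Groth.Agent.DQCoh.isFlat_tilde P hPflat, epi_comp _ _⟩

/-- Flatness on the affine opens inside the members of a family. -/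
def FlatOn (F : X.Modules) (W : X.Opens) : Prop := Module.Flat Γ(X, W) Γ(F, W)

/-- One step: flatness on one more affine open. -/
theorem exists_step (hd : ∀ V W : X.Opens, IsAffineOpen V → IsAffineOpen W → IsAffineOpen (V ⊓ W))
    {U : X.Opens} (hU : IsAffineOpen U) (F : X.Modules) (hF : Coh.IsQCoh F) :
    ∃ (E : X.Modules) (q : E ⟶ F), Coh.IsQCoh E ∧ Epi q ∧ ∀ W : X.Opens, IsAffineOpen W →
      (W ≤ U ∨ ∀ W' : X.Opens, IsAffineOpen W' → W' ≤ W → FlatOn F W') → FlatOn E W := by
  let j := hU.fromSpec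
  let A : (Spec Γ(X, U)).Modules := F.restrict j
  have hA : Coh.IsQCoh A := Groth.Agent.QC.isQCoh_restrict j hF
  obtain ⟨P, π, hP, hPflat, hπ⟩ := exists_flat_epi_spec A hA
  have hpre : ∀ W : X.Opens, IsAffineOpen W → IsAffineOpen (j ⁻¹ᵁ W) := fun W hW => by
    rw [← j.isAffineOpen_iff_of_isOpenImmersion, j.image_preimage_eq_opensRange_inf, hU.opensRange_fromSpec]
    exact hd U W hU hW
  haveI : IsAffineHom j := ⟨hpre⟩
  let Q := (Scheme.Modules.pushforward j).obj P
  let B := (Scheme.Modules.pushforward j).obj A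
  let a : Q ⟶ B := (Scheme.Modules.pushforward j).map π
  let η : F ⟶ B := (Scheme.Modules.restrictAdjunction j).unit.app F
  have hQ : Coh.IsQCoh Q := Groth.Agent.QC.isQCoh_pushforward j (hM := hP)
  have hB : Coh.IsQCoh B := Groth.Agent.QC.isQCoh_pushforward j (hM := hA)
  let φ : Q ⊞ F ⟶ B := biprod.fst ≫ a - biprod.snd ≫ η
  let E := kernel φ
  let fstE : E ⟶ Q := kernel.ι φ ≫ biprod.fst
  let q : E ⟶ F := kernel.ι φ ≫ biprod.snd
  have hE : Coh.IsQCoh E :=
    Groth.Agent.QC.isQCoh_kernel (Groth.Agent.CohQC.isQCoh_biprod hQ hF) hB φ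
  have hcond : fstE ≫ a = q ≫ η := by
    rw [← sub_eq_zero]
    have := kernel.condition φ
    simp only [φ, Preadditive.comp_sub] at this
    simpa [fstE, q, E] using this
  have hext : ∀ (W : X.Opens) (e e' : Γ(E, W)), fstE.app W e = fstE.app W e' → q.app W e = q.app W e' → e = e' := by
    intro W e e' h1 h2
    apply Groth.Agent.QC.app_injective_of_mono (kernel.ι φ) W
    have h : ∀ z : Γ(Q ⊞ F, W),
        z = (biprod.inl : Q ⟶ Q ⊞ F).app W ((biprod.fst : Q ⊞ F ⟶ Q).app W z) +
          (biprod.inr : F ⟶ Q ⊞ F).app W ((biprod.snd : Q ⊞ F ⟶ F).app W z) := fun z => by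
      have := congrArg (fun ψ => (Scheme.Modules.Hom.app ψ W) z) (biprod.total (X := Q) (Y := F))
      exact this.symm
    rw [h ((kernel.ι φ).app W e), h ((kernel.ι φ).app W e')]
    change (biprod.inl : Q ⟶ Q ⊞ F).app W (fstE.app W e) + (biprod.inr : F ⟶ Q ⊞ F).app W (q.app W e) = _
    rw [h1, h2]
    rfl
  have hmk : ∀ (W : X.Opens) (x : Γ(Q, W)) (m : Γ(F, W)), a.app W x = η.app W m →
      ∃ e : Γ(E, W), fstE.app W e = x ∧ q.app W e = m := by
    intro W x m h
    let z : Γ(Q ⊞ F, W) := (biprod.inl : Q ⟶ Q ⊞ F).app W x + (biprod.inr : F ⟶ Q ⊞ F).app W m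
    have hf : (biprod.fst : Q ⊞ F ⟶ Q).app W z = x := by
      simp only [z, map_add, ← comp_app_apply, biprod.inl_fst, biprod.inr_fst]
      change x + 0 = x
      rw [add_zero]
    have hs : (biprod.snd : Q ⊞ F ⟶ F).app W z = m := by
      simp only [z, map_add, ← comp_app_apply, biprod.inl_snd, biprod.inr_snd]
      change 0 + m = m
      rw [zero_add]
    have hz : φ.app W z = 0 := by
      change a.app W ((biprod.fst : Q ⊞ F ⟶ Q).app W z) - η.app W ((biprod.snd : Q ⊞ F ⟶ F).app W z) = 0
      rw [hf, hs, h, sub_self]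
    obtain ⟨e, he⟩ := (Groth.Agent.QC.mem_range_kernel_app φ W z).2 hz
    exact ⟨e, (comp_app_apply (kernel.ι φ) biprod.fst W e).trans (by rw [he, hf]),
      (comp_app_apply (kernel.ι φ) biprod.snd W e).trans (by rw [he, hs])⟩
  have hcond' : ∀ (W : X.Opens) (e : Γ(E, W)), a.app W (fstE.app W e) = η.app W (q.app W e) := fun W e =>
    congrArg (fun ψ => (Scheme.Modules.Hom.app ψ W) e) hcond
  have hsurj : ∀ W : X.Opens, IsAffineOpen W → Function.Surjective (a.app W) := fun W hW =>
    Groth.Agent.QC.app_surjective_of_epi (hpre W hW) hP hA π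
  have hqsurj : ∀ W : X.Opens, IsAffineOpen W → Function.Surjective (q.app W) := fun W hW m => by
    obtain ⟨x, hx⟩ := hsurj W hW (η.app W m)
    obtain ⟨e, -, he⟩ := hmk W x m hx
    exact ⟨e, he⟩
  have hflatQ : ∀ W : X.Opens, IsAffineOpen W → FlatOn Q W := fun W hW => by
    have hj : (j.app W).hom.Flat := by
      rw [← Scheme.Hom.appLE_eq_app]
      exact HasRingHomProperty.appLE @Flat j inferInstance ⟨W, hW⟩ ⟨_, hpre W hW⟩ le_rfl
    exact flat_compHom (M := Γ(P, j ⁻¹ᵁ W)) (j.app W).hom hj (Groth.Agent.LocFree.flat_sections (hpre W hW) hP hPflat)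
  refine ⟨E, q, hE, ?_, fun W hW hW' => ?_⟩
  · refine InvGen.epi_of_locally _ fun V t x hx => ?_
    obtain ⟨W, hW, hxW, hWV⟩ := exists_isAffineOpen_mem_and_subset (show x ∈ V from hx)
    obtain ⟨e, he⟩ := hqsurj W hW (res F hWV t)
    exact ⟨W, hWV, hxW, e, he⟩
  rcases hW' with hWU | hold
  · have hη : Function.Bijective (η.app W) := by
      have h : j ''ᵁ (j ⁻¹ᵁ W) = W := by
        rw [j.image_preimage_eq_opensRange_inf, hU.opensRange_fromSpec, inf_eq_right.mpr hWU]
      rw [Scheme.Modules.restrictAdjunction_unit_app_app]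
      exact ⟨fun m m' hm => by
          simpa [res_res, res_self] using congrArg (res F h.ge) (show res F (j.image_preimage_le W) m = res F (j.image_preimage_le W) m' from hm),
        fun t => ⟨res F h.ge t, by
          show res F (j.image_preimage_le W) (res F h.ge t) = t
          rw [res_res, res_self]⟩⟩
    refine @Module.Flat.of_linearEquiv _ _ _ _ _ _ _ _ (hflatQ W hW) (LinearEquiv.ofBijective (appₗ fstE W)
      ⟨fun e e' he => hext W e e' he (hη.1 ?_), fun x => ?_⟩)
    · rw [← hcond' W e, ← hcond' W e']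
      exact congrArg (a.app W) he
    · obtain ⟨m, hm⟩ := hη.2 (a.app W x)
      obtain ⟨e, he, -⟩ := hmk W x m hm.symm
      exact ⟨e, he⟩
  · have hflatA : Module.Flat Γ(Spec Γ(X, U), j ⁻¹ᵁ W) Γ(A, j ⁻¹ᵁ W) := by
      have h := hold (j ''ᵁ (j ⁻¹ᵁ W)) (by rw [j.isAffineOpen_iff_of_isOpenImmersion]; exact hpre W hW)
        (j.image_preimage_le W)
      exact flat_compHom (M := Γ(F, j ''ᵁ (j ⁻¹ᵁ W))) (j.appIso (j ⁻¹ᵁ W)).inv.hom
        (RingHom.Flat.of_bijective (j.appIso (j ⁻¹ᵁ W)).commRingCatIsoToRingEquiv.symm.bijective) h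
    haveI := hflatA
    haveI := Groth.Agent.LocFree.flat_sections (hpre W hW) hP hPflat
    let πl := appₗ π (j ⁻¹ᵁ W)
    have hker : Module.Flat Γ(Spec Γ(X, U), j ⁻¹ᵁ W) (LinearMap.ker πl) :=
      Groth.Agent.HTorBC.flat_ker (LinearMap.ker πl).subtype πl Subtype.val_injective
        (Groth.Agent.QC.app_surjective_of_epi (hpre W hW) hP hA π) (LinearMap.exact_subtype_ker_map πl)
    have hj : (j.app W).hom.Flat := by
      rw [← Scheme.Hom.appLE_eq_app]
      exact HasRingHomProperty.appLE @Flat j inferInstance ⟨W, hW⟩ ⟨_, hpre W hW⟩ le_rfl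
    letI : Module Γ(X, W) (LinearMap.ker πl) := Module.compHom _ (j.app W).hom
    haveI : Module.Flat Γ(X, W) (LinearMap.ker πl) := flat_compHom (j.app W).hom hj hker
    haveI : Module.Flat Γ(X, W) Γ(F, W) := hold W hW le_rfl
    have hk : ∀ k : LinearMap.ker πl, ∃ e : Γ(E, W), fstE.app W e = k.1 ∧ q.app W e = 0 := fun k =>
      hmk W k.1 0 (by rw [map_zero]; exact k.2)
    choose ke hke hke' using hk
    let incl : LinearMap.ker πl →ₗ[Γ(X, W)] Γ(E, W) :=
      { toFun := ke
        map_add' := fun k k' => hext W _ _ (by rw [map_add, hke, hke, hke]; rfl) (by rw [map_add, hke', hke', hke', add_zero])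
        map_smul' := fun r k => hext W _ _
          (by rw [RingHom.id_apply, Scheme.Modules.Hom.app_smul, hke, hke]; rfl)
          (by rw [RingHom.id_apply, Scheme.Modules.Hom.app_smul, hke', hke', smul_zero]) }
    refine flat_extension incl (appₗ q W) (fun k k' h => Subtype.ext ?_) (fun e => ⟨fun he => ?_, ?_⟩) (hqsurj W hW)
    · rw [← hke k, ← hke k']
      exact congrArg (fstE.app W) h
    · have hk' : fstE.app W e ∈ LinearMap.ker πl := by
        change a.app W (fstE.app W e) = 0
        rw [hcond', show q.app W e = 0 from he, map_zero]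
      exact ⟨⟨fstE.app W e, hk'⟩, hext W _ _ (hke _) ((hke' _).trans he.symm)⟩
    · rintro ⟨k, rfl⟩
      exact hke' k

/-- Quasi-coherent modules are quotients of flat ones. -/
theorem exists_flat_epi [CompactSpace X]
    (hd : ∀ V W : X.Opens, IsAffineOpen V → IsAffineOpen W → IsAffineOpen (V ⊓ W)) (M : X.Modules)
    (hM : Coh.IsQCoh M) : ∃ (F : X.Modules) (π : F ⟶ M), Coh.IsQCoh F ∧ FlatMod.IsFlat F ∧ Epi π := by
  classical
  have key : ∀ t : Finset X.affineOpens, ∃ (F : X.Modules) (π : F ⟶ M), Coh.IsQCoh F ∧ Epi π ∧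
      ∀ W : X.Opens, IsAffineOpen W → (∃ U ∈ t, W ≤ U.1) → FlatOn F W := by
    intro t
    induction t using Finset.induction_on with
    | empty => exact ⟨M, 𝟙 M, hM, inferInstance, by simp⟩
    | insert U t _ ih =>
      obtain ⟨F, π, hF, hπ, hflat⟩ := ih
      obtain ⟨E, q, hE, hq, hE'⟩ := exists_step hd U.2 F hF
      refine ⟨E, q ≫ π, hE, epi_comp q π, fun W hW ⟨U', hU', hWU⟩ => hE' W hW ?_⟩
      rcases Finset.mem_insert.1 hU' with rfl | hU'
      · exact Or.inl hWU
      · exact Or.inr fun W' hW' hle => hflat W' hW' ⟨U', hU', hle.trans hWU⟩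
  obtain ⟨t, ht⟩ := (isCompact_univ (X := X)).elim_finite_subcover (fun U : X.affineOpens => (U.1 : Set X))
    (fun U => U.1.2) fun x _ => by
      obtain ⟨U, hU, hx, -⟩ := exists_isAffineOpen_mem_and_subset (x := x) (U := (⊤ : X.Opens)) trivial
      exact Set.mem_iUnion.2 ⟨⟨U, hU⟩, hx⟩
  obtain ⟨F, π, hF, hπ, hflat⟩ := key t
  refine ⟨F, π, hF, Groth.Agent.PinchQC.isFlat_of_affine hF fun x => ?_, hπ⟩
  obtain ⟨U, hU, hx⟩ := Set.mem_iUnion₂.1 (ht (Set.mem_univ x))
  exact ⟨U.1, U.2, hx, hflat U.1 U.2 ⟨U, hU, le_rfl⟩⟩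

end Groth.Agent.FlatCover
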